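import Mathlib
import Cfsg.Prelude.Def_SporadicB

set_option autoImplicit false

/-! A group with a central involution that is a square, of order at most `40320`, with a
homomorphism to the permutations of eight points whose kernel contains the involution and whose
image has at least `20160` elements, is a double cover of the alternating group of degree eight
that does not split. Also the permutations of the pairs that respect a map defined on a part of
the pairs. -/

noncomputable section

namespace Cfsg.Agent.Helper9.McLC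

open Cfsg

section cover

variable {C : Type*} [Group C] [Finite C] (t u : C) (ht : ∀ c : C, c * t = t * c) (ht1 : t ≠ 1)
  (htt : t * t = 1) (hu : u * u = t) (φ : C →* Equiv.Perm (Fin 8)) (hφt : φ t = 1)
  (hC : Nat.card C ≤ 40320) (hr : 20160 ≤ Nat.card ↥φ.range)

include ht1 htt hφt hC hr in
theorem ker_range_card : Nat.card ↥φ.ker = 2 ∧ Nat.card ↥φ.range = 20160 := by
  have h1 := Subgroup.card_eq_card_quotient_mul_card_subgroup φ.ker
  have h2 : Nat.card (C ⧸ φ.ker) = Nat.card ↥φ.range :=
    Nat.card_congr (QuotientGroup.quotientKerEquivRange φ).toEquiv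
  rw [h2] at h1
  have h3 : 2 ≤ Nat.card ↥φ.ker := by
    have hz : Subgroup.zpowers t ≤ φ.ker := by
      rw [Subgroup.zpowers_le]
      exact hφt
    have h4 : Nat.card ↥(Subgroup.zpowers t) = 2 := by
      rw [Nat.card_zpowers]
      have : Fact (Nat.Prime 2) := ⟨Nat.prime_two⟩
      apply orderOf_eq_prime
      · rw [pow_two]; exact htt
      · exact ht1
    rw [← h4]
    exact Subgroup.card_le_of_le hz
  have h5 : Nat.card ↥φ.range * 2 ≤ Nat.card ↥φ.range * Nat.card ↥φ.ker :=
    Nat.mul_le_mul_left _ h3
  have h6 : 20160 * Nat.card ↥φ.ker ≤ Nat.card ↥φ.range * Nat.card ↥φ.ker :=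
    Nat.mul_le_mul_right _ hr
  constructor <;> nlinarith

include ht ht1 htt hu hφt hC hr in
/-- the group is a double cover of the alternating group that does not split. -/
theorem nonsplit_cover_of : IsNonsplitDoubleCover C ↥(alternatingGroup (Fin 8)) := by
  obtain ⟨hk, hrc⟩ := ker_range_card t ht1 htt φ hφt hC hr
  have : Fact (Nat.Prime 2) := ⟨Nat.prime_two⟩
  have hot : orderOf t = 2 := by
    apply orderOf_eq_prime
    · rw [pow_two]; exact htt
    · exact ht1
  -- the kernel consists of the powers of the involution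
  have hker : Subgroup.zpowers t = φ.ker := by
    apply Subgroup.eq_of_le_of_card_ge
    · rw [Subgroup.zpowers_le]; exact hφt
    · rw [hk, Nat.card_zpowers, hot]
  -- the image is the alternating group
  have hrange : φ.range = alternatingGroup (Fin 8) := by
    apply Equiv.Perm.eq_alternatingGroup_of_index_eq_two
    have h1 := Subgroup.card_mul_index φ.range
    rw [hrc, Nat.card_perm, Nat.card_fin] at h1
    have : (8 : ℕ).factorial = 40320 := by decide
    rw [this] at h1
    omega
  let φ' : C →* ↥(alternatingGroup (Fin 8)) :=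
    φ.codRestrict (alternatingGroup (Fin 8)) (fun c => by rw [← hrange]; exact ⟨c, rfl⟩)
  have hφ' : ∀ c, (φ' c).1 = φ c := fun _ => rfl
  have hsurj : Function.Surjective φ' := by
    intro y
    have : y.1 ∈ φ.range := by rw [hrange]; exact y.2
    obtain ⟨c, hc⟩ := this
    exact ⟨c, Subtype.ext hc⟩
  have hker' : φ'.ker = φ.ker := by
    ext c
    rw [MonoidHom.mem_ker, MonoidHom.mem_ker]
    constructor
    · intro h; rw [← hφ', h]; rfl
    · intro h; apply Subtype.ext; rw [hφ', h]; rfl
  -- the centre is the kernel
  have hcen : Subgroup.center C = φ'.ker := by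
    apply le_antisymm
    · intro z hz
      rw [MonoidHom.mem_ker]
      have h1 : φ' z ∈ Subgroup.center ↥(alternatingGroup (Fin 8)) := by
        rw [Subgroup.mem_center_iff]
        intro a
        obtain ⟨c, rfl⟩ := hsurj a
        rw [← map_mul, ← map_mul, Subgroup.mem_center_iff.1 hz c]
      rw [alternatingGroup.center_eq_bot (by rw [Nat.card_fin]; norm_num), Subgroup.mem_bot] at h1
      exact h1
    · rw [hker', ← hker, Subgroup.zpowers_le, Subgroup.mem_center_iff]
      exact ht
  refine ⟨?_, ⟨?_⟩, ?_⟩
  · rw [hcen, hker']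
    exact hk
  · exact (QuotientGroup.quotientMulEquivOfEq hcen).trans
      (QuotientGroup.quotientKerEquivOfSurjective φ' hsurj)
  · intro L hL
    have htz : t ∈ Subgroup.center C := Subgroup.mem_center_iff.2 ht
    obtain ⟨⟨⟨z, hz⟩, ⟨l, hl⟩⟩, hzl, -⟩ := hL.existsUnique u
    have hzl' : z * l = u := hzl
    have hz2 : z * z = 1 := by
      have : z ∈ Subgroup.zpowers t := by
        rw [hker, ← hker', ← hcen]; exact hz
      obtain ⟨k, rfl⟩ := Subgroup.mem_zpowers_iff.1 this
      rw [← zpow_add, ← two_mul, zpow_mul, zpow_ofNat, pow_two, htt, one_zpow]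
    have hzc := Subgroup.mem_center_iff.1 hz
    have hll : l * l = t := by
      rw [← hu, ← hzl']
      calc l * l = (z * z) * (l * l) := by rw [hz2, one_mul]
        _ = z * (z * l) * l := by group
        _ = z * (l * z) * l := by rw [hzc l]
        _ = z * l * (z * l) := by group
    have htL : t ∈ L := by rw [← hll]; exact L.mul_mem hl hl
    have hdis := hL.disjoint
    rw [Subgroup.disjoint_def] at hdis
    exact ht1 (hdis htz htL)

end cover

section desc

variable {α β : Type*} (P : α → Prop) (f : α → β)

/-- the permutations that respect a part and a map defined on the part. -/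
def descSubP : Subgroup (Equiv.Perm α) where
  carrier := {c | (∀ x, P x ↔ P (c x)) ∧ ∃ π : Equiv.Perm β, ∀ x, P x → f (c x) = π (f x)}
  mul_mem' := by
    rintro c c' ⟨hp, π, h⟩ ⟨hp', π', h'⟩
    refine ⟨fun x => (hp' x).trans (hp (c' x)), π * π', fun x hx => ?_⟩
    rw [Equiv.Perm.mul_apply, Equiv.Perm.mul_apply, h _ ((hp' x).1 hx), h' x hx]
  one_mem' := ⟨fun _ => Iff.rfl, 1, fun _ _ => rfl⟩
  inv_mem' := by
    rintro c ⟨hp, π, h⟩
    have hp' : ∀ x, P x ↔ P (c⁻¹ x) := by
      intro x
      have := hp (c⁻¹ x)
      rw [Equiv.Perm.inv_def, Equiv.apply_symm_apply] at this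
      rw [Equiv.Perm.inv_def]
      exact this.symm
    refine ⟨hp', π⁻¹, fun x hx => ?_⟩
    apply π.injective
    rw [← h _ ((hp' x).1 hx), Equiv.Perm.inv_def, Equiv.Perm.inv_def, Equiv.apply_symm_apply,
      Equiv.apply_symm_apply]

variable (hf : ∀ y : β, ∃ x, P x ∧ f x = y)

include hf in
theorem descP_unique {c : Equiv.Perm α} {π π' : Equiv.Perm β}
    (h : ∀ x, P x → f (c x) = π (f x)) (h' : ∀ x, P x → f (c x) = π' (f x)) : π = π' := by
  ext y
  obtain ⟨x, hx, rfl⟩ := hf y
  rw [← h x hx, ← h' x hx]

/-- the permutation of the values. -/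
def descHomP : ↥(descSubP P f) →* Equiv.Perm β where
  toFun c := Classical.choose c.2.2
  map_one' := by
    apply descP_unique P f hf (c := 1) (Classical.choose_spec (1 : ↥(descSubP P f)).2.2)
    intro x _
    rfl
  map_mul' c c' := by
    apply descP_unique P f hf (c := (c * c' : ↥(descSubP P f)).1)
      (Classical.choose_spec (c * c').2.2)
    intro x hx
    have h := Classical.choose_spec c.2.2
    have h' := Classical.choose_spec c'.2.2
    rw [Subgroup.coe_mul, Equiv.Perm.mul_apply, Equiv.Perm.mul_apply,
      h _ ((c'.2.1 x).1 hx), h' x hx]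

theorem descHomP_spec (c : ↥(descSubP P f)) (x : α) (hx : P x) :
    f (c.1 x) = descHomP P f hf c (f x) :=
  Classical.choose_spec c.2.2 x hx

theorem descHomP_eq {c : ↥(descSubP P f)} {π : Equiv.Perm β}
    (h : ∀ x, P x → f (c.1 x) = π (f x)) : descHomP P f hf c = π :=
  descP_unique P f hf (descHomP_spec P f hf c) h

end desc

/-- the action of the permutations on the pairs. -/
def pairHom (γ : Type*) : Equiv.Perm γ →* Equiv.Perm (γ × γ) where
  toFun c := Equiv.prodCongr c c
  map_one' := by ext x <;> rfl
  map_mul' c c' := by ext x <;> rfl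

theorem pairHom_apply {γ : Type*} (c : Equiv.Perm γ) (x : γ × γ) :
    pairHom γ c x = (c x.1, c x.2) := rfl

end Cfsg.Agent.Helper9.McLC

end
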