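import Mathlib
import Cfsg.Agent.Helper9.McLC.Abs
import Cfsg.Agent.Helper9.HeC.Abs

set_option autoImplicit false

/-! The statement on double covers for a group isomorphic to a group with the data; the
conjugacy of elements from the conjugacy of their images. -/

noncomputable section

namespace Cfsg.Agent.Helper9.McLC

open Cfsg

/-- a group isomorphic to a group with a central involution that is a square, of order at most
`40320`, with a homomorphism to the permutations of eight points whose kernel contains the
involution and whose image has at least `20160` elements, is a double cover of the alternating group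
of degree eight that does not split. -/
theorem nonsplit_cover_of_iso {C C' : Type*} [Group C] [Group C'] [Finite C'] (i : C ≃* C')
    (t u : C') (ht : ∀ c : C', c * t = t * c) (ht1 : t ≠ 1) (htt : t * t = 1) (hu : u * u = t)
    (φ : C' →* Equiv.Perm (Fin 8)) (hφt : φ t = 1) (hC : Nat.card C' ≤ 40320)
    (hr : 20160 ≤ Nat.card ↥φ.range) :
    IsNonsplitDoubleCover C ↥(alternatingGroup (Fin 8)) := by
  have : Finite C := Finite.of_equiv C' i.symm.toEquiv
  refine nonsplit_cover_of (i.symm t) (i.symm u) ?_ ?_ ?_ ?_ (φ.comp i.toMonoidHom) ?_ ?_ ?_
  · intro c
    apply i.injective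
    rw [map_mul, map_mul, i.apply_symm_apply]
    exact ht (i c)
  · intro h
    apply ht1
    have := congrArg i h
    rwa [i.apply_symm_apply, map_one] at this
  · rw [← map_mul, htt, map_one]
  · rw [← map_mul, hu]
  · change φ (i (i.symm t)) = 1
    rw [i.apply_symm_apply]
    exact hφt
  · rw [Nat.card_congr i.toEquiv]
    exact hC
  · have : (φ.comp i.toMonoidHom).range = φ.range := by
      rw [MonoidHom.range_comp]
      have : i.toMonoidHom.range = ⊤ := MonoidHom.range_eq_top.2 i.surjective
      rw [this, ← MonoidHom.range_eq_map]
    rw [this]
    exact hr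

/-- elements whose images under an isomorphism are conjugate are conjugate. -/
theorem isConj_of_map {X Y : Type*} [Group X] [Group Y] (e : X ≃* Y) {x y : X}
    (h : IsConj (e x) (e y)) : IsConj x y := by
  rw [isConj_iff] at h ⊢
  obtain ⟨c, hc⟩ := h
  refine ⟨e.symm c, ?_⟩
  apply e.injective
  rw [map_mul, map_mul, map_inv, e.apply_symm_apply]
  exact hc

end Cfsg.Agent.Helper9.McLC

end
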