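import Mathlib
import Cfsg.Agent.Helper9.McLC.Data
import Cfsg.Agent.Helper9.McLO.Data

set_option autoImplicit false

/-! Kernel checks of the certificates. -/

noncomputable section

namespace Cfsg.Agent.Helper9.McLC

open Cfsg.Agent.Helper9.OutG Cfsg.Agent.Helper9.J3 Cfsg.Agent.Helper9.McLO Cfsg.Agent.Helper9.Co2C

set_option maxRecDepth 1000000 in
theorem tab_c : allB (tabChk cD) cD.K = true := by decide +kernel

set_option maxRecDepth 1000000 in
theorem dw_c : allB (dwChk cD) cD.K = true := by decide +kernel

theorem cTab : tabOK cD := fun _ hk => allB_true tab_c hk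

theorem cDwOK : dwOK cD := fun _ hk => allB_true dw_c hk

set_option maxRecDepth 1000000 in
theorem let_c : allB (fun l => allB (fun x => Nat.beq (T cD l x) (T dD l x)) 275) 4 = true := by decide +kernel

set_option maxRecDepth 1000000 in
theorem kt_c : allB (fun x => Nat.beq (T cD cF.kt x) (tF dD dS 0 x)) 275 = true := by decide +kernel

set_option maxRecDepth 1000000 in
theorem tr_c : allB (trChk cD cTr 0 cD.n) cD.n = true := by decide +kernel

set_option maxRecDepth 1000000 in
theorem fix_c : Nat.beq (fixCnt cD cF.kt) 35 = true := by decide +kernel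

set_option maxRecDepth 1000000 in
theorem cj_c : cjChk cD cF.kt 0 dC.bs cCj 0 = true := by decide +kernel

set_option maxRecDepth 1000000 in
theorem cjlen : Nat.beq cCj.length 2835 = true := by decide +kernel

set_option maxRecDepth 1000000 in
theorem m_hcomm : allL (fun k => commChk cD k cF.kt) cF.cgL = true := by decide +kernel

set_option maxRecDepth 1000000 in
theorem m_hblk_b : allB (pblkChk cD eD cF) 7 = true := by decide +kernel

theorem m_hblk : ∀ ci, ci < cF.cgL.length → pblkChk cD eD cF ci = true := by
  intro ci hci
  have h2 : cF.cgL.length = 7 := by decide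
  rw [h2] at hci
  exact allB_true m_hblk_b hci

set_option maxRecDepth 1000000 in
theorem m_hkt8 : Nat.ble eD.K (lkF 8 255 cF.lam cF.ikt) = true := by decide +kernel

set_option maxRecDepth 1000000 in
theorem m_hrep : allB (fun v => sapp (fun p => andB (ltB (Nat.div p cD.n) cD.n) (Nat.beq (blk2N cF p) v)) (lkF 20 1048575 cF.rep v)) eD.n = true := by decide +kernel

set_option maxRecDepth 1000000 in
theorem m_hlet : allB (fun l => andB (ltB (nthN cF.letC l) cF.cgL.length) (Nat.beq (lkF 8 255 cF.lam (nthN cF.letC l)) l)) eD.L = true := by decide +kernel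

set_option maxRecDepth 1000000 in
theorem m_hsq : allB (fun x => Nat.beq (T cD cF.kt (T cD cF.kt x)) x) cD.n = true := by decide +kernel

set_option maxRecDepth 1000000 in
theorem m_hmv : notB (allB (fun x => Nat.beq (T cD cF.kt x) x) cD.n) = true := by decide +kernel

set_option maxRecDepth 1000000 in
theorem m_hroot : allB (fun x => Nat.beq (T cD cF.ku (T cD cF.ku x)) (T cD cF.kt x)) cD.n = true := by decide +kernel

theorem mok : MOK cD eD cF :=
  { hcomm := m_hcomm, hikt := by decide, hiku := by decide, hblk := m_hblk, hkt8 := m_hkt8, hrep := m_hrep,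
    hlet := m_hlet, hsq := m_hsq, hmv := m_hmv, hroot := m_hroot, hpos := by decide }

set_option maxRecDepth 1000000 in
theorem e_tab : allB (tabChk eD) eD.K = true := by decide +kernel

set_option maxRecDepth 1000000 in
theorem e_dw : allB (dwChk eD) eD.K = true := by decide +kernel

set_option maxRecDepth 1000000 in
theorem e_chain : chainChk eD eC.bs [] eC.wss = true := by decide +kernel

set_option maxRecDepth 1000000 in
theorem e_plen : prodLen eC.wss = 20160 := by decide +kernel

/-- the verified core of the permutations of the values. -/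
theorem eCore : Core eD eC 20160 :=
  ⟨fun _ hk => allB_true e_tab hk, fun _ hk => allB_true e_dw hk, e_chain, e_plen⟩

set_option maxRecDepth 1000000 in
theorem inv_c : allWI (invP dD dC dS) iWs 0 = true := by decide +kernel

set_option maxRecDepth 1000000 in
theorem ilen : Nat.beq iWs.length 128 = true := by decide +kernel

end Cfsg.Agent.Helper9.McLC

end
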