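import Mathlib
import Cfsg.Agent.Helper9.McLC.Chk
import Cfsg.Agent.Helper9.McLC.Abs2
import Cfsg.Agent.Helper9.McLO.Chk
import Cfsg.Agent.Helper9.McLO.BrChk
import Cfsg.Agent.Helper9.LeechAct.Stab
import Cfsg.Agent.Helper9.Leech.McLSimple

set_option autoImplicit false

/-! The involutions of the group of McLaughlin are conjugate, and the centralizer of an involution
is a double cover of the alternating group of degree eight that does not split. -/

noncomputable section

namespace Cfsg.Agent.Helper9.McLC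

open Cfsg Cfsg.Agent.Helper9.Golay Cfsg.Agent.Helper9.Leech Cfsg.Agent.Helper9.OutG
open Cfsg.Agent.Helper9.LeechAct Cfsg.Agent.Helper9.J3 Cfsg.Agent.Helper9.McLO
open Cfsg.Agent.Helper9.Co2C

theorem mem_McL_iff (g : Equiv.Perm ↥leechLattice) :
    g ∈ Spor.McL ↔ g ∈ Co0 ∧ g Spor.leechV = Spor.leechV ∧ g Spor.leechU = Spor.leechU := by
  unfold Spor.McL Spor.Co3
  rw [Subgroup.mem_inf, Subgroup.mem_inf, MulAction.mem_stabilizer_iff,
    MulAction.mem_stabilizer_iff]
  exact ⟨fun h => ⟨h.1.1, h.1.2, h.2⟩, fun h => ⟨⟨h.1, h.2.1⟩, h.2.2⟩⟩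

theorem coeV : ((Spor.leechV : ↥leechLattice) : GolayPt → ℤ) = toVec (dFix.getD 0 []) := by
  funext p
  revert p
  decide

theorem coeU : ((Spor.leechU : ↥leechLattice) : GolayPt → ℤ) = toVec (dFix.getD 1 []) := by
  funext p
  revert p
  decide

theorem normU : sqNorm ((Spor.leechU : ↥leechLattice) : GolayPt → ℤ) = 32 := by decide

theorem normW : sqNorm (((0 - Spor.leechU - Spor.leechV : ↥leechLattice) : ↥leechLattice) :
    GolayPt → ℤ) = 32 := by decide

theorem dotUW : dotInt ((Spor.leechU : ↥leechLattice) : GolayPt → ℤ)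
    (((0 - Spor.leechU - Spor.leechV : ↥leechLattice) : ↥leechLattice) : GolayPt → ℤ) = -8 := by
  decide

theorem mcl_fin : Finite ↥Spor.McL ∧ Nat.card ↥Spor.McL ≤ 898128000 :=
  finite_card_le (by norm_num)
    (mcl_simple_card Spor.leechU (0 - Spor.leechU - Spor.leechV) normU normW dotUW).2
    (joint_mem Spor.leechU Spor.leechV (fun g hg =>
      ⟨((mem_McL_iff g).1 hg).1, ((mem_McL_iff g).1 hg).2.2, ((mem_McL_iff g).1 hg).2.1⟩))

/-- the vector of the first point. -/
def rootV : GolayPt → ℤ := fun p => if p = none ∨ p = some 1 then 4 else 0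

theorem rootV_mem : rootV ∈ leechSet :=
  Spor.mem_leechSet_of_const_mod_four rootV 0 0 (by decide) (by decide) (by decide)

/-- the first point. -/
def rootL : ↥leechLattice := ⟨rootV, AddSubgroup.subset_closure rootV_mem⟩

/-- the group of McLaughlin is the group of the tables. -/
theorem mcl_iso : Nonempty (↥Spor.McL ≃* ↥(GS core)) ∧ Nat.card ↥(GS core) = 898128000 := by
  have := mcl_fin.1
  have hx0 : ((rootL : ↥leechLattice) : GolayPt → ℤ) = toVec (nthZ dBr.pts dBr.rt) := by
    have e : nthZ dBr.pts dBr.rt = [0, 4, 0, 0, 0, 0, 0, 0, 0, 0, 0, 0, 0, 0, 0, 0, 0, 0, 0, 0, 0,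
      0, 0, 4] := by decide +kernel
    rw [e]
    funext p
    revert p
    decide
  exact bridge core brOK Spor.McL mcl_fin.2
    [(Spor.leechV, dFix.getD 0 []), (Spor.leechU, dFix.getD 1 [])]
    (by
      intro f hf
      simp only [List.mem_cons, List.not_mem_nil, or_false] at hf
      rcases hf with rfl | rfl
      · exact coeV
      · exact coeU)
    (by decide)
    (by
      intro f hf
      simp only [List.mem_cons, List.not_mem_nil, or_false] at hf
      rcases hf with rfl | rfl <;> decide)
    (by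
      intro g hg hfx
      rw [mem_McL_iff]
      exact ⟨hg, hfx (Spor.leechV, dFix.getD 0 []) List.mem_cons_self,
        hfx (Spor.leechU, dFix.getD 1 []) (List.mem_cons_of_mem _ List.mem_cons_self)⟩)
    rootL hx0 br_len

theorem el_eq (l : ℕ) (hl : l < 4) : El cD cTab l = El dD core.tab l := by
  apply perm_ext cD
  intro x
  have h1 := allB_true let_c hl
  have h2 := allB_true h1 x.isLt
  exact Nat.eq_of_beq_eq_true h2

theorem grp_eq : grp cD cTab = GS core := by
  have e : (Set.range fun l : Fin cD.L => El cD cTab ↑l) =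
      Set.range fun l : Fin dD.L => El dD core.tab ↑l := by
    ext g
    constructor
    · rintro ⟨l, rfl⟩
      exact ⟨l, (el_eq l.val l.isLt).symm⟩
    · rintro ⟨l, rfl⟩
      exact ⟨l, el_eq l.val l.isLt⟩
  exact congrArg Subgroup.closure e

theorem card_grp : Nat.card ↥(grp cD cTab) = 898128000 := by
  rw [grp_eq]
  exact mcl_iso.2

theorem kt_eq : El cD cTab cF.kt = (tE core dS 0).1 := by
  apply perm_ext cD
  intro x
  exact Nat.eq_of_beq_eq_true (allB_true kt_c x.isLt)

set_option maxRecDepth 1000000 in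
theorem cen_le : Nat.card ↥(grp cD cTab ⊓ Subgroup.centralizer {El cD cTab cF.kt}) ≤ 40320 := by
  have h1 : fixCnt cD cF.kt = 35 := Nat.eq_of_beq_eq_true fix_c
  have h2 : cCj.length = 2835 := Nat.eq_of_beq_eq_true cjlen
  have h3 : cD.n = 275 := by decide
  refine card_centralizer_le cD cTab cDwOK cTr 0 (by decide) tr_c cF.kt 0 (by decide) dC.bs
    (by decide) cCj cj_c 898128000 40320 card_grp ?_ ?_
  · rw [h1, h2, h3]
  · rw [h2, h3]
    norm_num

theorem gen_eq : genSub cD cTab cF.cgL =
    grp cD cTab ⊓ Subgroup.centralizer {El cD cTab cF.kt} :=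
  genSub_eq cTab eCore.tab cDwOK eCore.dw mok 20160 (card_ge eCore) cen_le

/-- the statement for the group of the tables. -/
theorem cover_tab {X : Type*} [Group X]
    (i : X ≃* ↥(grp cD cTab ⊓ Subgroup.centralizer {El cD cTab cF.kt})) :
    IsNonsplitDoubleCover X ↥(alternatingGroup (Fin 8)) := by
  have : Finite ↥(genSub cD cTab cF.cgL) := inferInstance
  have hr : 20160 ≤ Nat.card ↥(sigHom2 cTab eCore.tab mok).range := by
    rw [sigHom2_range cTab eCore.tab eCore.dw mok]
    exact card_ge eCore
  refine nonsplit_cover_of_iso (i.trans (MulEquiv.subgroupCongr gen_eq.symm))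
    (tEl cTab mok) (uEl cTab mok) (tEl_comm cTab mok) (tEl_ne_one cTab mok) (tEl_sq cTab mok)
    (uEl_sq cTab mok) (sigHom2 cTab eCore.tab mok) (sigHom2_t cTab eCore.tab mok) ?_ hr
  rw [gen_eq]
  exact cen_le

/-- the involutions of the group of McLaughlin are conjugate, and the centralizer of an involution
is a double cover of the alternating group of degree eight that does not split. -/
theorem mcl_involutions : (∀ x y : ↥Spor.McL, orderOf x = 2 → orderOf y = 2 → IsConj x y) ∧
    ∃ t : ↥Spor.McL, orderOf t = 2 ∧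
      IsNonsplitDoubleCover ↥(Subgroup.centralizer ({t} : Set ↥Spor.McL))
        ↥(alternatingGroup (Fin 8)) := by
  obtain ⟨⟨e⟩, hN⟩ := mcl_iso
  have hlen : iWs.length = 2 ^ dS.k := by
    rw [Nat.eq_of_beq_eq_true ilen]
    decide
  have key : ∀ x : ↥Spor.McL, orderOf x = 2 → IsConj (e x) (tE core dS 0) := by
    intro x hx
    apply inv_conj core sylOK hN iWs hlen (by decide) inv_c
    rw [MulEquiv.orderOf_eq]
    exact hx
  constructor
  · intro x y hx hy
    exact isConj_of_map e ((key x hx).trans (key y hy).symm)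
  · have ht : El cD cTab cF.kt ∈ GS core := by
      rw [kt_eq]
      exact (tE core dS 0).2
    have ht2 : El cD cTab cF.kt * El cD cTab cF.kt = 1 := congrArg Subtype.val (tEl_sq cTab mok)
    have ht1 : El cD cTab cF.kt ≠ 1 := by
      intro h1
      exact tEl_ne_one cTab mok (Subtype.ext h1)
    have : Fact (Nat.Prime 2) := ⟨Nat.prime_two⟩
    refine ⟨e.symm ⟨El cD cTab cF.kt, ht⟩, ?_, ?_⟩
    · apply orderOf_eq_prime
      · rw [pow_two, ← map_mul]
        have : (⟨El cD cTab cF.kt, ht⟩ : ↥(GS core)) * ⟨El cD cTab cF.kt, ht⟩ = 1 :=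
          Subtype.ext ht2
        rw [this, map_one]
      · intro h1
        have h2 : e (e.symm ⟨El cD cTab cF.kt, ht⟩) = e 1 := congrArg e h1
        rw [e.apply_symm_apply, map_one] at h2
        exact ht1 (congrArg Subtype.val h2)
    · have e1 := Cfsg.Agent.Helper9.HeC.centralizerCongr e (e.symm ⟨El cD cTab cF.kt, ht⟩)
      rw [e.apply_symm_apply] at e1
      have e2 := Cfsg.Agent.Helper9.HeC.centralizerSubgroup (GS core) (El cD cTab cF.kt) ht
      have e3 : ↥(GS core ⊓ Subgroup.centralizer {El cD cTab cF.kt}) ≃*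
          ↥(grp cD cTab ⊓ Subgroup.centralizer {El cD cTab cF.kt}) :=
        MulEquiv.subgroupCongr
          (congrArg (fun H => H ⊓ Subgroup.centralizer {El cD cTab cF.kt}) grp_eq.symm)
      exact cover_tab ((e1.trans e2).trans e3)

end Cfsg.Agent.Helper9.McLC

end
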