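import Mathlib
import Cfsg.Agent.Helper9.OutG.Syl
import Cfsg.Agent.Helper9.J3Z.Sylow

set_option autoImplicit false

/-! The involutions of a group of permutations given by tables are conjugate to the first
generator of a subgroup of order the power of two in the order of the group, if the involutions
among the normal forms of the subgroup are. -/

noncomputable section

namespace Cfsg.Agent.Helper9.McLC

open Cfsg.Agent.Helper9.OutG Cfsg.Agent.Helper9.J3 Cfsg.Agent.Helper9.PChain
open Cfsg.Agent.Helper9.HeO

/-- the check of the words of a list with their places. -/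
def allWI (p : ℕ → List ℕ → Bool) (ws : List (List ℕ)) : ℕ → Bool :=
  List.rec (motive := fun _ => ℕ → Bool) (fun _ => true)
    (fun w _ ih e => andB (p e w) (ih (Nat.succ e))) ws

theorem allWI_true {p : ℕ → List ℕ → Bool} {ws : List (List ℕ)} {e0 : ℕ}
    (h : allWI p ws e0 = true) : ∀ i, i < ws.length → p (e0 + i) (ws.getD i []) = true := by
  induction ws generalizing e0 with
  | nil => intro i hi; exact absurd hi (Nat.not_lt_zero _)
  | cons w ws ih =>
    have h' : andB (p e0 w) (allWI p ws (Nat.succ e0)) = true := h
    obtain ⟨h1, h2⟩ := andB_true h'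
    intro i hi
    cases i with
    | zero => exact h1
    | succ i =>
      have := ih h2 i (Nat.lt_of_succ_lt_succ hi)
      rw [List.getD_cons_succ]
      have e : e0 + (i + 1) = Nat.succ e0 + i := by omega
      rw [e]
      exact this

theorem agreeL_of_forall {bs : List ℕ} {f g : ℕ → ℕ} (h : ∀ β ∈ bs, f β = g β) :
    agreeL bs f g = true := by
  induction bs with
  | nil => rfl
  | cons γ bs ih =>
    change andB (Nat.beq (f γ) (g γ)) (agreeL bs f g) = true
    rw [h γ List.mem_cons_self, Nat.beq_refl, ih (fun β hβ => h β (List.mem_cons_of_mem _ hβ))]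
    rfl

theorem nfE_zero' {X : Type*} [Group X] (h : ℕ → X) (m : ℕ) : nfE h m 0 = 1 := by
  induction m with
  | zero => rfl
  | succ m ih =>
    rw [nfE_succ, ih, bitT_eq, Nat.zero_testBit, if_neg Bool.false_ne_true, one_mul]

/-- the check of a normal form: it is the neutral element, or its square is not, or it is the
conjugate of the first generator by a word. -/
def invP (D : Dat) (C : ChainD) (S : SylD) (e : ℕ) (w : List ℕ) : Bool :=
  orB (Nat.beq e 0)
    (orB (notB (agreeL C.bs (fun x => nfF D S S.k e (nfF D S S.k e x)) (fun x => x)))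
      (agreeL C.bs (nfF D S S.k e) (fun x => evalT D w (tF D S 0 (evalI D w x)))))

variable {D : Dat} {C : ChainD} {N : ℕ} (h : Core D C N) {S : SylD} (hS : SylOK D C N S)
  (hN : Nat.card ↥(GS h) = N)

include hS hN in
/-- the involutions are conjugate to the first generator. -/
theorem inv_conj (ws : List (List ℕ)) (hlen : ws.length = 2 ^ S.k) (hbs : ∀ b ∈ C.bs, b < D.n)
    (hI : allWI (invP D C S) ws 0 = true) (x : ↥(GS h)) (hx : orderOf x = 2) :
    IsConj x (tE h S 0) := by
  have : Finite ↥(GS h) := Nat.finite_of_card_ne_zero (by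
    rw [hN, hS.hodd.1]
    have := hS.hodd.2
    have h2 : 0 < 2 ^ S.k := by positivity
    have h3 : 0 < S.odd := by omega
    exact (Nat.mul_pos h2 h3).ne')
  have hfac : (Nat.card ↥(GS h)).factorization 2 =
      (Nat.card ↥(SH h (S := S) S.k)).factorization 2 := by
    rw [factorization_two_card h hS hN, card_SH h hS hN, Nat.factorization_pow]
    simp [Nat.Prime.factorization_self Nat.prime_two]
  obtain ⟨g, hg⟩ := Cfsg.Agent.Helper9.J3Z.exists_conj_mem (SH h (S := S) S.k) hfac x hx
  obtain ⟨e, he, hy⟩ := mem_SH h hS hN le_rfl hg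
  have hxx : x * x = 1 := by
    have := pow_orderOf_eq_one x
    rwa [hx, pow_two] at this
  have hx1 : x ≠ 1 := by
    intro h1
    rw [h1, orderOf_one] at hx
    exact absurd hx (by norm_num)
  have hp := allWI_true hI e (by rw [hlen]; exact he)
  rw [Nat.zero_add] at hp
  unfold invP at hp
  rcases orB_true hp with h1 | h1
  · exfalso
    rw [Nat.eq_of_beq_eq_true h1] at hy
    unfold nfG at hy
    rw [nfE_zero'] at hy
    apply hx1
    have : x = g⁻¹ * (g * x * g⁻¹) * g := by group
    rw [this, hy]
    group
  rcases orB_true h1 with h2 | h2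
  · exfalso
    have h3 := notB_true h2
    have hyy : nfG h S S.k e * nfG h S S.k e = 1 := by
      rw [← hy]
      calc g * x * g⁻¹ * (g * x * g⁻¹) = g * (x * x) * g⁻¹ := by group
        _ = 1 := by rw [hxx]; group
    have hc := Comp.coe_mul h (comp_nfG h S S.k e) (comp_nfG h S S.k e)
    rw [hyy] at hc
    have : agreeL C.bs (fun x => nfF D S S.k e (nfF D S S.k e x)) (fun x => x) = true := by
      apply agreeL_of_forall
      intro β hβ
      have := hc ⟨β, hbs β hβ⟩
      exact this.symm
    rw [this] at h3
    exact Bool.noConfusion h3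
  · have hw : nfG h S S.k e = gW h (ws.getD e []) * tE h S 0 * (gW h (ws.getD e []))⁻¹ := by
      have c1 : Comp (gW h (ws.getD e []) * tE h S 0).1
          (fun z => evalT D (ws.getD e []) (tF D S 0 z)) :=
        Comp.coe_mul h (f := evalT D (ws.getD e [])) (f' := tF D S 0) (comp_gW h _)
          (comp_tE h S 0)
      have c2 : Comp (gW h (ws.getD e []) * tE h S 0 * (gW h (ws.getD e []))⁻¹).1
          (fun z => evalT D (ws.getD e []) (tF D S 0 (evalI D (ws.getD e []) z))) :=
        Comp.coe_mul h (f := fun z => evalT D (ws.getD e []) (tF D S 0 z))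
          (f' := evalI D (ws.getD e [])) c1 (comp_gW_inv h _)
      exact eq_of_agreeL h hN (comp_nfG h S S.k e) c2 h2
    rw [isConj_comm, isConj_iff]
    refine ⟨g⁻¹ * gW h (ws.getD e []), ?_⟩
    have : x = g⁻¹ * (g * x * g⁻¹) * g := by group
    rw [this, hy, hw]
    group

end Cfsg.Agent.Helper9.McLC

end
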