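import Mathlib
import Cfsg.Agent.Helper9.Co2C.LibB
import Cfsg.Agent.Helper9.McLC.Abs

set_option autoImplicit false

/-! A subgroup of a group of permutations given by tables, generated by tables that commute with
an involution, acting on the values of a map defined on a part of the pairs of points. -/

noncomputable section

namespace Cfsg.Agent.Helper9.McLC

open Cfsg Cfsg.Agent.Helper9.OutG Cfsg.Agent.Helper9.J3 Cfsg.Agent.Helper9.Co2C

/-- the data: the tables of the generators, the places of the involution and of its square root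
among them, the packed values of the pairs, 4 bits each in leaves of 1024, the packed tables of the
permutations of the values, 8 bits each, the packed pairs with given values, 20 bits each, and the
places of the generators whose permutations of the values are the letters. -/
structure MDat where
  /-- the tables of the generators. -/
  cgL : List ℕ
  /-- the place of the involution. -/
  ikt : ℕ
  /-- the place of the square root. -/
  iku : ℕ
  /-- the packed values of the pairs. -/
  blk : NTree
  /-- the packed tables of the permutations of the values. -/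
  lam : ℕ
  /-- the packed pairs with given values. -/
  rep : ℕ
  /-- the places of the generators of the letters. -/
  letC : List ℕ

variable (D D' : Dat) (F : MDat)

/-- the involution. -/
abbrev MDat.kt (F : MDat) : ℕ := nthN F.cgL F.ikt

/-- the square root. -/
abbrev MDat.ku (F : MDat) : ℕ := nthN F.cgL F.iku

/-- the value of a pair. -/
def blk2N (v : ℕ) : ℕ := lkF 4 15 (tget F.blk (Nat.shiftRight v 10)) (Nat.land v 1023)

/-- the number of a pair. -/
def pairN (x y : ℕ) : ℕ := Nat.add (Nat.mul x D.n) y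

/-- the check of the permutation of the values of a generator. -/
def pblkChk (ci : ℕ) : Bool :=
  sapp (fun c => sapp (fun l =>
    allB (fun x => allB (fun y => sapp (fun b => sapp (fun b' =>
        Bool.rec (Nat.ble D'.n b') (Nat.beq b' (T D' l b)) (ltB b D'.n))
      (blk2N F (pairN D (T D c x) (T D c y)))) (blk2N F (pairN D x y))) D.n) D.n)
    (lkF 8 255 F.lam ci)) (nthN F.cgL ci)

/-- the checks. -/
structure MOK : Prop where
  /-- the generators commute with the involution. -/
  hcomm : allL (fun k => commChk D k F.kt) F.cgL = true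
  /-- the places. -/
  hikt : F.ikt < F.cgL.length
  /-- the places. -/
  hiku : F.iku < F.cgL.length
  /-- the permutations of the values. -/
  hblk : ∀ ci, ci < F.cgL.length → pblkChk D D' F ci = true
  /-- the involution fixes the values. -/
  hkt8 : Nat.ble D'.K (lkF 8 255 F.lam F.ikt) = true
  /-- the pairs with given values. -/
  hrep : allB (fun v => sapp (fun p => andB (ltB (Nat.div p D.n) D.n) (Nat.beq (blk2N F p) v))
    (lkF 20 1048575 F.rep v)) D'.n = true
  /-- the letters. -/
  hlet : allB (fun l => andB (ltB (nthN F.letC l) F.cgL.length)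
    (Nat.beq (lkF 8 255 F.lam (nthN F.letC l)) l)) D'.L = true
  /-- the involution. -/
  hsq : allB (fun x => Nat.beq (T D F.kt (T D F.kt x)) x) D.n = true
  /-- the involution moves a point. -/
  hmv : notB (allB (fun x => Nat.beq (T D F.kt x) x) D.n) = true
  /-- the square root. -/
  hroot : allB (fun x => Nat.beq (T D F.ku (T D F.ku x)) (T D F.kt x)) D.n = true
  /-- there is a value. -/
  hpos : 0 < D'.n

section mok

variable {D D' F} (hD : tabOK D) (hD' : tabOK D') (hP : dwOK D) (hP' : dwOK D') (h : MOK D D' F)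

/-- the part of the pairs. -/
def pairP (p : Fin D.n × Fin D.n) : Prop := blk2N F (pairN D p.1.val p.2.val) < D'.n

/-- the value of a pair. -/
def pairF (h0 : 0 < D'.n) (p : Fin D.n × Fin D.n) : Fin D'.n :=
  if hp : blk2N F (pairN D p.1.val p.2.val) < D'.n then ⟨_, hp⟩ else ⟨0, h0⟩

theorem pairF_val (h0 : 0 < D'.n) (p : Fin D.n × Fin D.n) (hp : pairP (D' := D') (F := F) p) :
    (pairF (F := F) h0 p).val = blk2N F (pairN D p.1.val p.2.val) := by
  unfold pairF
  exact congrArg Fin.val (dif_pos (show blk2N F (pairN D p.1.val p.2.val) < D'.n from hp))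

include h in
theorem pairF_surj : ∀ v : Fin D'.n, ∃ p : Fin D.n × Fin D.n,
    pairP (D' := D') (F := F) p ∧ pairF (F := F) h.hpos p = v := by
  intro v
  have h1 := allB_true h.hrep v.isLt
  rw [sapp_eq] at h1
  obtain ⟨h2, h3⟩ := andB_true h1
  have h4 := Nat.eq_of_beq_eq_true h3
  have hx : lkF 20 1048575 F.rep v.val / D.n < D.n := ltB_true h2
  have hn : 0 < D.n := lt_of_le_of_lt (Nat.zero_le _) hx
  have hy : lkF 20 1048575 F.rep v.val % D.n < D.n := Nat.mod_lt _ hn
  have e : pairN D (lkF 20 1048575 F.rep v.val / D.n) (lkF 20 1048575 F.rep v.val % D.n) =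
      lkF 20 1048575 F.rep v.val := by
    change lkF 20 1048575 F.rep v.val / D.n * D.n + lkF 20 1048575 F.rep v.val % D.n = _
    exact Nat.div_add_mod' _ _
  have hp : pairP (D' := D') (F := F) (⟨_, hx⟩, ⟨_, hy⟩) := by
    unfold pairP
    rw [e, h4]
    exact v.isLt
  refine ⟨(⟨_, hx⟩, ⟨_, hy⟩), hp, ?_⟩
  apply Fin.ext
  rw [pairF_val h.hpos _ hp]
  rw [e, h4]

include h in
theorem gen_mem_descSubP {ci : ℕ} (hci : ci < F.cgL.length) :
    (∀ p : Fin D.n × Fin D.n, pairP (D' := D') (F := F) p ↔
      pairP (D' := D') (F := F) (pairHom _ (El D hD (nthN F.cgL ci)) p)) ∧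
    ∀ p : Fin D.n × Fin D.n, pairP (D' := D') (F := F) p →
      pairF (F := F) h.hpos (pairHom _ (El D hD (nthN F.cgL ci)) p) =
        El D' hD' (lkF 8 255 F.lam ci) (pairF (F := F) h.hpos p) := by
  have hc := h.hblk ci hci
  unfold pblkChk at hc
  rw [sapp_eq, sapp_eq] at hc
  have key : ∀ p : Fin D.n × Fin D.n,
      Bool.rec (Nat.ble D'.n (blk2N F (pairN D (T D (nthN F.cgL ci) p.1.val)
        (T D (nthN F.cgL ci) p.2.val))))
        (Nat.beq (blk2N F (pairN D (T D (nthN F.cgL ci) p.1.val) (T D (nthN F.cgL ci) p.2.val)))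
          (T D' (lkF 8 255 F.lam ci) (blk2N F (pairN D p.1.val p.2.val))))
        (ltB (blk2N F (pairN D p.1.val p.2.val)) D'.n) = true := by
    intro p
    have h1 := allB_true (allB_true hc p.1.isLt) p.2.isLt
    rw [sapp_eq, sapp_eq] at h1
    exact h1
  have himg : ∀ p : Fin D.n × Fin D.n, pairP (D' := D') (F := F) p →
      blk2N F (pairN D (T D (nthN F.cgL ci) p.1.val) (T D (nthN F.cgL ci) p.2.val)) =
        T D' (lkF 8 255 F.lam ci) (blk2N F (pairN D p.1.val p.2.val)) := by
    intro p hp
    have h1 := key p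
    have h2 : ltB (blk2N F (pairN D p.1.val p.2.val)) D'.n = true := by
      unfold ltB
      exact Nat.ble_eq_true_of_le hp
    rw [h2] at h1
    exact Nat.eq_of_beq_eq_true h1
  have hiff : ∀ p : Fin D.n × Fin D.n, pairP (D' := D') (F := F) p ↔
      pairP (D' := D') (F := F) (pairHom _ (El D hD (nthN F.cgL ci)) p) := by
    intro p
    rw [pairHom_apply]
    unfold pairP
    change _ ↔ blk2N F (pairN D (El D hD (nthN F.cgL ci) p.1).val
      (El D hD (nthN F.cgL ci) p.2).val) < D'.n
    rw [El_apply, El_apply]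
    constructor
    · intro hp
      rw [himg p hp]
      have := (El D' hD' (lkF 8 255 F.lam ci) ⟨_, hp⟩).isLt
      rwa [El_apply] at this
    · intro hp'
      by_contra hp
      have h1 := key p
      have h2 : ltB (blk2N F (pairN D p.1.val p.2.val)) D'.n = false := by
        cases hb : ltB (blk2N F (pairN D p.1.val p.2.val)) D'.n
        · rfl
        · exact absurd (ltB_true hb) hp
      rw [h2] at h1
      have h3 : D'.n ≤ _ := Nat.le_of_ble_eq_true h1
      exact absurd hp' (Nat.not_lt.2 h3)
  refine ⟨hiff, ?_⟩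
  intro p hp
  apply Fin.ext
  rw [pairF_val h.hpos _ ((hiff p).1 hp), El_apply, pairF_val h.hpos _ hp, pairHom_apply]
  change blk2N F (pairN D (El D hD (nthN F.cgL ci) p.1).val
    (El D hD (nthN F.cgL ci) p.2).val) = _
  rw [El_apply, El_apply]
  exact himg p hp

include hD' h in
theorem genSub_le_descSubP : genSub D hD F.cgL ≤
    (descSubP (pairP (D := D) (D' := D') (F := F)) (pairF (F := F) h.hpos)).comap
      (pairHom (Fin D.n)) := by
  unfold genSub
  rw [Subgroup.closure_le]
  rintro σ ⟨k, hk, rfl⟩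
  obtain ⟨ci, hci, rfl⟩ := exists_nthN hk
  obtain ⟨h1, h2⟩ := gen_mem_descSubP hD hD' h hci
  exact ⟨h1, El D' hD' (lkF 8 255 F.lam ci), h2⟩

/-- the action of the subgroup generated on the values. -/
def sigHom2 : ↥(genSub D hD F.cgL) →* Equiv.Perm (Fin D'.n) :=
  ((descHomP (pairP (D := D) (D' := D') (F := F)) (pairF (F := F) h.hpos) (pairF_surj h)).comp
    ((pairHom (Fin D.n)).subgroupComap _)).comp
    (Subgroup.inclusion (genSub_le_descSubP hD hD' h))

theorem sigHom2_gen {ci : ℕ} (hci : ci < F.cgL.length) :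
    sigHom2 hD hD' h ⟨El D hD (nthN F.cgL ci), El_mem_genSub D hD (nthN_mem hci)⟩ =
      El D' hD' (lkF 8 255 F.lam ci) :=
  descHomP_eq _ _ (pairF_surj h) (gen_mem_descSubP hD hD' h hci).2

include hP' in
theorem sigHom2_range : (sigHom2 hD hD' h).range = grp D' hD' := by
  apply le_antisymm
  · rintro _ ⟨c, rfl⟩
    obtain ⟨c, hc⟩ := c
    induction hc using Subgroup.closure_induction with
    | mem σ hσ =>
      obtain ⟨k, hk, rfl⟩ := hσ
      obtain ⟨ci, hci, rfl⟩ := exists_nthN hk
      rw [sigHom2_gen hD hD' h hci]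
      exact El_mem D' hD' hP' _
    | one =>
      have : (⟨1, Subgroup.one_mem _⟩ : ↥(genSub D hD F.cgL)) = 1 := rfl
      rw [this, map_one]
      exact Subgroup.one_mem _
    | mul a b ha hb iha ihb =>
      have : (⟨a * b, Subgroup.mul_mem _ ha hb⟩ : ↥(genSub D hD F.cgL)) = ⟨a, ha⟩ * ⟨b, hb⟩ := rfl
      rw [this, map_mul]
      exact Subgroup.mul_mem _ iha ihb
    | inv a ha iha =>
      have : (⟨a⁻¹, Subgroup.inv_mem _ ha⟩ : ↥(genSub D hD F.cgL)) = (⟨a, ha⟩)⁻¹ := rfl
      rw [this, map_inv]
      exact Subgroup.inv_mem _ iha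
  · unfold grp
    rw [Subgroup.closure_le]
    rintro _ ⟨l, rfl⟩
    obtain ⟨h1, h2⟩ := andB_true (allB_true h.hlet l.isLt)
    have hci : nthN F.letC l.val < F.cgL.length := ltB_true h1
    refine ⟨⟨El D hD (nthN F.cgL (nthN F.letC l.val)), El_mem_genSub D hD (nthN_mem hci)⟩, ?_⟩
    rw [sigHom2_gen hD hD' h hci, Nat.eq_of_beq_eq_true h2]

/-- the involution as an element of the subgroup generated. -/
def tEl : ↥(genSub D hD F.cgL) := ⟨El D hD F.kt, El_mem_genSub D hD (nthN_mem h.hikt)⟩

/-- the square root as an element of the subgroup generated. -/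
def uEl : ↥(genSub D hD F.cgL) := ⟨El D hD F.ku, El_mem_genSub D hD (nthN_mem h.hiku)⟩

theorem sigHom2_t : sigHom2 hD hD' h (tEl hD h) = 1 := by
  unfold tEl
  rw [sigHom2_gen hD hD' h h.hikt]
  exact El_ge D' hD' (Nat.not_lt.2 (Nat.le_of_ble_eq_true h.hkt8))

theorem tEl_sq : tEl hD h * tEl hD h = 1 := by
  apply Subtype.ext
  apply perm_ext D
  intro x
  change ((El D hD F.kt * El D hD F.kt) x).val = x.val
  rw [Equiv.Perm.mul_apply, El_apply, El_apply]
  exact Nat.eq_of_beq_eq_true (allB_true h.hsq x.isLt)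

theorem tEl_ne_one : tEl hD h ≠ 1 := by
  intro h1
  have h2 := notB_true h.hmv
  have h3 : allB (fun x => Nat.beq (T D F.kt x) x) D.n = true := by
    apply allB_of_forall
    intro i hi
    have e : (El D hD F.kt ⟨i, hi⟩).val = i := by
      have : El D hD F.kt = 1 := congrArg Subtype.val h1
      rw [this]
      rfl
    rw [El_apply] at e
    change Nat.beq (T D F.kt i) i = true
    rw [e, Nat.beq_refl]
  rw [h3] at h2
  exact Bool.noConfusion h2

theorem uEl_sq : uEl hD h * uEl hD h = tEl hD h := by
  apply Subtype.ext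
  apply perm_ext D
  intro x
  change ((El D hD F.ku * El D hD F.ku) x).val = (El D hD F.kt x).val
  rw [Equiv.Perm.mul_apply, El_apply, El_apply, El_apply]
  exact Nat.eq_of_beq_eq_true (allB_true h.hroot x.isLt)

theorem tEl_comm (c : ↥(genSub D hD F.cgL)) : c * tEl hD h = tEl hD h * c := by
  apply Subtype.ext
  have := genSub_le_centralizer D hD h.hcomm c.2
  exact Subgroup.mem_centralizer_singleton_iff.1 this

include hP hP' h in
/-- the subgroup generated is the centralizer, if the centralizer has at most twice as many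
elements as the group of the permutations of the values. -/
theorem genSub_eq (N8 : ℕ) (hN8 : N8 ≤ Nat.card ↥(grp D' hD'))
    (hub : Nat.card ↥(grp D hD ⊓
      Subgroup.centralizer ({El D hD F.kt} : Set (Equiv.Perm (Fin D.n)))) ≤ 2 * N8) :
    genSub D hD F.cgL =
      grp D hD ⊓ Subgroup.centralizer ({El D hD F.kt} : Set (Equiv.Perm (Fin D.n))) := by
  have hle : genSub D hD F.cgL ≤
      grp D hD ⊓ Subgroup.centralizer ({El D hD F.kt} : Set (Equiv.Perm (Fin D.n))) :=
    le_inf (genSub_le_grp D hD hP _) (genSub_le_centralizer D hD h.hcomm)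
  apply Subgroup.eq_of_le_of_card_ge hle
  refine le_trans hub ?_
  have h1 := Subgroup.card_eq_card_quotient_mul_card_subgroup (sigHom2 hD hD' h).ker
  have h2 : Nat.card (↥(genSub D hD F.cgL) ⧸ (sigHom2 hD hD' h).ker) =
      Nat.card ↥(grp D' hD') := by
    rw [← sigHom2_range hD hD' hP' h]
    exact Nat.card_congr (QuotientGroup.quotientKerEquivRange _).toEquiv
  rw [h2] at h1
  have h3 : 2 ≤ Nat.card ↥(sigHom2 hD hD' h).ker := by
    have : Fact (Nat.Prime 2) := ⟨Nat.prime_two⟩
    have hz : Subgroup.zpowers (tEl hD h) ≤ (sigHom2 hD hD' h).ker := by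
      rw [Subgroup.zpowers_le]
      exact sigHom2_t hD hD' h
    have h4 : Nat.card ↥(Subgroup.zpowers (tEl hD h)) = 2 := by
      rw [Nat.card_zpowers]
      apply orderOf_eq_prime
      · rw [pow_two]; exact tEl_sq hD h
      · exact tEl_ne_one hD h
    rw [← h4]
    exact Subgroup.card_le_of_le hz
  rw [h1]
  calc 2 * N8 = N8 * 2 := Nat.mul_comm _ _
    _ ≤ Nat.card ↥(grp D' hD') * Nat.card ↥(sigHom2 hD hD' h).ker := Nat.mul_le_mul hN8 h3

end mok

end Cfsg.Agent.Helper9.McLC

end
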